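import Cfsg.Agent.Lib.FT.BG1.Chief
import Cfsg.Agent.Lib.FT.BG1.Coprime
import Cfsg.Agent.Lib.FT.BG1.Transfer
import Cfsg.Agent.Lib.FT.BG1.PLength

/-!
Bender–Glauberman §1 (all proved):
* `BG1/Chief`: `IsChief M U V` (chief factors), 1.1, 1.2;
* `BG1/Coprime`: 1.4 – 1.14, 1.16, 1.20, 1.22;
* `BG1/Transfer`: normal `p`-complements, 1.17 – 1.19, abelian and cyclic Sylow subgroups;
* `BG1/PLength`: `ppCoreOf p M = O_{p',p}(M)`, 1.15, 1.21.
-/
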