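import Cfsg.Agent.Lib.FT.BG10.B

/-!
Bender–Glauberman §10 (the subgroups `M_α`, `M_β`, `M_σ`).
`M_α = alphaCore M`, `M_σ = sigmaCore M`, `M_β = piCoreOf (beta M) M`; `X^g` is
`X.map (MulAut.conj g).toMonoidHom`.
Files: `BG10/A` (10.1 - 10.7), `BG10/B` (10.8 - 10.14).
-/
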