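import Cfsg.Agent.Lib.FT.BG4.Solv

/-!
Bender–Glauberman §4 (`p`-groups of small rank).
Everything is stated for subgroups of one ambient finite group `G`; `O_{p'}(M)` is
`(pPrimeCore p M).map M.subtype`, `Z(R)` is `R ⊓ centralizer R`, `Ω₁(R)` is `omegaOne p R`,
`Z₂(R)` is `z2Of R`.
Files: `BG4/Small` (4.3 - 4.11, 4.13), `BG4/GL2` (2.6), `BG4/Act` (4.17), `BG4/Huppert` (4.12, 4.15),
`BG4/Blackburn` (4.16), `BG4/Solv` (4.18 - 4.20).
-/
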