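import Cfsg.Agent.Lib.FT.Basic.Pi
import Cfsg.Agent.Lib.FT.Basic.Hall
import Cfsg.Agent.Lib.FT.Basic.Fitting
import Cfsg.Agent.Lib.FT.Basic.Rank
import Cfsg.Agent.Lib.FT.Basic.MinSimple

/-!
Basic API for the odd order development (see the imported files).
-/
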