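import Cfsg.Agent.Lib.FT.BG12.A
import Cfsg.Agent.Lib.FT.BG12.B
import Cfsg.Agent.Lib.FT.BG12.C

/-!
Bender–Glauberman §12 (the subgroup `E`): see `BG12/A` (12.1–12.6, `IsE2`, `SigmaCompl`),
`BG12/B` (12.7–12.12), `BG12/C` (12.13–12.19).
-/
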