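import Cfsg.Agent.Lib.FT.BG15.C

/-!
Bender–Glauberman §15: `BG15/A` (15.1, 15.2), `BG15/B` (15.3 – 15.7), `BG15/C` (15.8, 15.9).
-/
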