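import Cfsg.Agent.Lib.FT.BG5.Act

/-!
Bender–Glauberman §5 (narrow `p`-groups).
Everything is stated for subgroups of one ambient finite group `G`.
In 5.2, 5.3: `Z = Ω₁(Z(R))`, `W = Ω₁(Z₂(R))`, `T = C_R(W)`.
Files: `BG5/Narrow` (5.1 - 5.4), `BG5/Act` (5.5 - 5.7).
-/
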