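import Cfsg.Agent.Lib.FT.PF1.Basic
import Cfsg.Agent.Lib.FT.PF1.Normal
import Cfsg.Agent.Lib.FT.PF1.Ext
import Cfsg.Agent.Lib.FT.PF1.IndSet

/-!
Interface: Peterfalvi §1 (and (4.1), and the basic facts about `indSet`); everything is proved in
`PF1/Basic`, `PF1/Normal`, `PF1/Ext`, `PF1/IndSet`.
-/
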