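import Cfsg.Agent.Lib.FT.PF8.Support

/-!
Interface: Peterfalvi §8.  `PF8/TypeP` (type-P data, `h.a`, `h.b`, `primeTI`, `cycTI`, `IsFrobF`), `PF8/TypeF`
((8.1)–(8.3)), `PF8/Types` (types, `TypePPair`, (8.8)–(8.12)), `PF8/Support` ((8.13)–(8.18), Dade hypotheses).
-/
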