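import Cfsg.Agent.Lib.FT.PF2.Basic
import Cfsg.Agent.Lib.FT.PF2.Gen

/-!
Peterfalvi §2 (the Dade isometry `dade A L H`) and (7.1)–(7.5) (the map `ρ = invDade A L H`);
proofs in `PF2/Basic.lean` and `PF2/Gen.lean`.
-/
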