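import Cfsg.Agent.Lib.FT.PF5.Basic
import Cfsg.Agent.Lib.FT.PF5.Dade

/-!
Peterfalvi §5 (coherence); proofs in `PF5/Basic.lean` and `PF5/Dade.lean`.
-/
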