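import Cfsg.Agent.Lib.FT.PF6.Sibley

/-!
Peterfalvi §6; proofs in `PF6/Group, Basic, Central, Sibley`.  `S(M) = indSet K K M`.
-/
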